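import Cfsg.Agent.Lib.G23.Main

/-!
# The centraliser `(SL₂(3) ∘ SL₂(3)).2`
-/

set_option maxRecDepth 100000
set_option synthInstance.maxSize 100000
set_option synthInstance.maxHeartbeats 200000
set_option Elab.async false

namespace Cfsg.Lib.G23

open Subgroup Cfsg.Lib.X32 Cfsg.Lib.Comp

universe u

/-- `SL(2,3)`. -/
abbrev SL3 := Matrix.SpecialLinearGroup (Fin 2) (ZMod 3)

/-- Generator of order three. -/
def sX : SL3 := ⟨!![1, 1; 0, 1], by decide⟩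
/-- Generator of order four. -/
def sA : SL3 := ⟨!![0, 2; 1, 0], by decide⟩

/-- The diagonal automorphism. -/
def sg0 (m : SL3) : SL3 := ⟨!![m 0 0, -m 0 1; -m 1 0, m 1 1], by
  have := m.det_coe
  rw [Matrix.det_fin_two] at this
  rw [Matrix.det_fin_two_of]; linear_combination this⟩

/-- The diagonal automorphism. -/
def σ : SL3 →* SL3 := ⟨⟨sg0, by decide +kernel⟩, by decide +kernel⟩

theorem gen3 {K : Subgroup SL3} (h1 : sX ∈ K) (h2 : sA ∈ K) (m : SL3) : m ∈ K := by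
  obtain ⟨a, b, c, d, rfl⟩ := (by decide +kernel : ∀ g : SL3, ∃ a b c d : Fin 4,
    g = sX ^ (a : ℕ) * sA ^ (b : ℕ) * sX ^ (c : ℕ) * sA ^ (d : ℕ)) m
  exact mul_mem (mul_mem (mul_mem (pow_mem h1 _) (pow_mem h2 _)) (pow_mem h1 _)) (pow_mem h2 _)

variable {G : Type u} [Group G] {i i1 i2 : SL3 →* G} {w : G}

theorem ext3 {j : SL3 →* G} (h1 : i sX = j sX) (h2 : i sA = j sA) (m : SL3) : i m = j m := gen3 (K := i.eqLocus j) h1 h2 m

theorem norm3 (hi : Function.Injective i) (h : ∀ m, ∃ n, w * i m * w⁻¹ = i n) :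
    ∃ k, (∀ m, i k * w * i m * (i k * w)⁻¹ = i m) ∨ ∀ m, i k * w * i m * (i k * w)⁻¹ = i (σ m) := by
  obtain ⟨x, hx⟩ := h sX
  obtain ⟨a, ha⟩ := h sA
  obtain ⟨c, hc⟩ := h (-1)
  have e : ∀ {p q r s}, w * i p * w⁻¹ = i q → w * i r * w⁻¹ = i s → w * i (p * r) * w⁻¹ = i (q * s) := fun h1 h2 => by
    rw [map_mul, map_mul, ← h1, ← h2, conj_mul]
  have o : w * i 1 * w⁻¹ = i 1 := by simp
  have c1 : c = -1 := (by decide +kernel : ∀ c : SL3, c * c = 1 → c ≠ 1 → c = -1) c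
    (hi ((e hc hc).symm.trans (by rw [show (-1 * -1 : SL3) = 1 by decide +kernel, o]))) fun e => by
      rw [e, map_one, conj_eq_one_iff, ← map_one i] at hc; exact absurd (hi hc) (by decide +kernel)
  obtain ⟨k, hk⟩ := (by decide +kernel : ∀ x a : SL3, x * x * x = 1 → a * a = -1 → x * a * (x * a) * (x * a) = -1 →
      ∃ k, (k * x * k⁻¹ = sX ∧ k * a * k⁻¹ = sA) ∨ (k * x * k⁻¹ = σ sX ∧ k * a * k⁻¹ = σ sA)) x a
    (hi ((e (e hx hx) hx).symm.trans (by rw [show sX * sX * sX = 1 by decide +kernel, o])))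
    (hi ((e ha ha).symm.trans (by rw [show sA * sA = -1 by decide +kernel, hc, c1])))
    (hi ((e (e (e hx ha) (e hx ha)) (e hx ha)).symm.trans (by
      rw [show sX * sA * (sX * sA) * (sX * sA) = -1 by decide +kernel, hc, c1])))
  have f : ∀ {p q}, w * i p * w⁻¹ = i q → i k * w * i p * (i k * w)⁻¹ = i (k * q * k⁻¹) := fun h => by
    rw [map_mul, map_mul, map_inv, ← h]; group
  refine ⟨k, hk.imp (fun hk => ext3 (i := (MulAut.conj (i k * w)).toMonoidHom.comp i) ?_ ?_) fun hk =>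
    ext3 (i := (MulAut.conj (i k * w)).toMonoidHom.comp i) (j := i.comp σ) ?_ ?_⟩
  exacts [(f hx).trans (congrArg i hk.1), (f ha).trans (congrArg i hk.2), (f hx).trans (congrArg i hk.1),
    (f ha).trans (congrArg i hk.2)]

/-- The configuration of two normal subgroups `SL₂(3)` in the centraliser of an involution. -/
structure Two (i1 i2 : SL3 →* G) (w : G) : Prop where
  j1 : Function.Injective i1
  j2 : Function.Injective i2
  z : i1 (-1) = i2 (-1)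
  int : ∀ m n, i1 m = i2 n → m = 1 ∨ m = -1
  n1 : ∀ g, g * i1 (-1) = i1 (-1) * g → ∀ m, ∃ n, g * i1 m * g⁻¹ = i1 n
  n2 : ∀ g, g * i1 (-1) = i1 (-1) * g → ∀ m, ∃ n, g * i2 m * g⁻¹ = i2 n
  wz : w * i1 (-1) = i1 (-1) * w
  ww : ∃ m n, w * w = i1 m * i2 n
  idx : ∀ g, g * i1 (-1) = i1 (-1) * g → ∃ m n, g = i1 m * i2 n ∨ g = i1 m * i2 n * w

namespace Two

variable (h : Two i1 i2 w)
include h

omit h in
theorem c1 (m : SL3) : i1 m * i1 (-1) = i1 (-1) * i1 m := by rw [← map_mul, ← map_mul]; simp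
theorem c2 (m : SL3) : i2 m * i1 (-1) = i1 (-1) * i2 m := by rw [h.z, ← map_mul, ← map_mul]; simp

theorem comm (m n : SL3) : i1 m * i2 n = i2 n * i1 m := by
  have k : ∀ m, m * m * m = 1 → m ∈ (centralizer {i2 n}).comap i1 := fun m hm => by
    obtain ⟨p, hp⟩ := h.n1 _ (h.c2 n) m
    obtain ⟨q, hq⟩ := h.n2 _ (c1 m) n⁻¹
    have e := h.int (p * m⁻¹) (n * q) (by rw [map_mul, map_mul, ← hp, ← hq, map_inv, map_inv]; group)
    have e3 : p * p * p = 1 := h.j1 (by rw [map_mul, map_mul, ← hp, conj_mul, conj_mul, ← map_mul, ← map_mul, hm]; simp)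
    rw [(by decide +kernel : ∀ m p : SL3, m * m * m = 1 → p * p * p = 1 → p * m⁻¹ = 1 ∨ p * m⁻¹ = -1 → p = m) m p hm e3 e] at hp
    exact mem_centralizer_singleton_iff.2 (mul_inv_eq_iff_eq_mul.1 hp).symm
  refine mem_centralizer_singleton_iff.1 (gen3 (K := (centralizer {i2 n}).comap i1) (k _ (by decide +kernel)) ?_ m)
  obtain ⟨p, q, p3, q3, e⟩ := (by decide +kernel : ∃ p q : SL3, p * p * p = 1 ∧ q * q * q = 1 ∧ sA = p * q)
  exact e ▸ mul_mem (k p p3) (k q q3)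

theorem symm : Two i2 i1 w where
  j1 := h.j2
  j2 := h.j1
  z := h.z.symm
  int := fun m n e => by
    rcases h.int n m e.symm with rfl | rfl
    · exact .inl (h.j2 (by rw [e, map_one, map_one]))
    · exact .inr (h.j2 (e.trans h.z))
  n1 := h.z ▸ h.n2
  n2 := h.z ▸ h.n1
  wz := h.z ▸ h.wz
  ww := by obtain ⟨m, n, e⟩ := h.ww; exact ⟨n, m, by rw [e, h.comm]⟩
  idx := fun g e => by obtain ⟨m, n, e⟩ := h.idx g (h.z ▸ e); exact ⟨n, m, by rwa [← h.comm]⟩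

theorem mul (k : SL3) : Two i1 i2 (i1 k * w) :=
  { h with
    wz := by rw [mul_assoc, h.wz, ← mul_assoc, c1, mul_assoc]
    ww := by
      obtain ⟨m, n, e⟩ := h.ww
      obtain ⟨p, hp⟩ := h.n1 w h.wz k
      exact ⟨k * p * m, n, by rw [map_mul, map_mul, mul_assoc _ (i1 m), ← e, ← hp]; group⟩
    idx := fun g e => by
      obtain ⟨m, n, e | e⟩ := h.idx g e
      · exact ⟨m, n, .inl e⟩
      · exact ⟨m * k⁻¹, n, .inr (by rw [e, map_mul, mul_assoc (i1 m) (i1 k⁻¹), h.comm k⁻¹, map_inv]; group)⟩ }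

theorem pm {m n : SL3} (e : i1 m * i2 n = 1) : (m = 1 ∧ n = 1) ∨ (m = -1 ∧ n = -1) := by
  rcases h.int m n⁻¹ (by rw [map_inv, eq_inv_iff_mul_eq_one, e]) with rfl | rfl
  · exact .inl ⟨rfl, h.j2 (by simpa using e)⟩
  · rw [h.z, ← map_mul, ← map_one i2] at e
    exact .inr ⟨rfl, (by decide +kernel : ∀ n : SL3, -1 * n = 1 → n = -1) n (h.j2 e)⟩

theorem mm (a b c d : SL3) : i1 a * i2 b * (i1 c * i2 d) = i1 (a * c) * i2 (b * d) := by
  rw [map_mul, map_mul, mul_assoc, ← mul_assoc (i2 b), ← h.comm]; group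
theorem zz : i1 (-1) * i2 (-1) = 1 := by rw [← h.z, ← map_mul]; simp
theorem z1 : i1 (-1) ≠ 1 := fun e => absurd (h.j1 (e.trans (map_one i1).symm)) (by decide +kernel)
theorem iv (a b : SL3) : (i1 a * i2 b)⁻¹ = i1 a⁻¹ * i2 b⁻¹ := by rw [mul_inv_rev, ← map_inv, ← map_inv, h.comm]

/-- Two involutions of the centraliser whose commutator is a further involution. -/
theorem exists_pq {g : G} {m n : SL3} (e : g * i1 (-1) * g⁻¹ = i1 m * i2 n) (ne : g * i1 (-1) * g⁻¹ ≠ i1 (-1)) :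
    (m * m = -1 ∧ n * n = -1) ∧ ∃ p q, p * i1 (-1) = i1 (-1) * p ∧ q * i1 (-1) = i1 (-1) * q ∧ p * p = 1 ∧ q * q = 1 ∧
      p * q * p⁻¹ * q⁻¹ = g⁻¹ * i1 (-1) * g ∧ g⁻¹ * i1 (-1) * g ≠ i1 (-1) := by
  have mm := h.mm
  have zz := h.zz
  have z1 := h.z1
  have e2 : m * m = -1 ∧ n * n = -1 := (h.pm (by rw [← mm, ← e, conj_mul, ← map_mul]; simp)).resolve_left fun k => by
    rcases (by decide +kernel : ∀ c : SL3, c * c = 1 → c = 1 ∨ c = -1) m k.1 with rfl | rfl <;>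
      rcases (by decide +kernel : ∀ c : SL3, c * c = 1 → c = 1 ∨ c = -1) n k.2 with rfl | rfl
    · exact z1 (by simpa using e)
    · exact ne (by rw [e, map_one, one_mul, h.z])
    · exact ne (by rw [e, map_one, mul_one])
    · exact z1 (conj_eq_one_iff.1 (e.trans zz))
  have f : ∀ m : SL3, m * m = -1 → ∃ b, b * b = -1 ∧ b * m = -1 * (m * b) ∧ b * m * (b * m) = -1 ∧
    b * m * m = -1 * (m * (b * m)) ∧ b * (b * m) * b⁻¹ * (b * m)⁻¹ = -1 := by decide +kernel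
  obtain ⟨b, b1, b2, -⟩ := f m e2.1
  obtain ⟨d, d1, d2, d3, d4, d5⟩ := f n e2.2
  have k : ∀ c, c * n = -1 * (n * c) → g⁻¹ * (i1 b * i2 c) * g * i1 (-1) = i1 (-1) * (g⁻¹ * (i1 b * i2 c) * g) := fun c e' => by
    calc _ = g⁻¹ * (i1 b * i2 c * (g * i1 (-1) * g⁻¹)) * g := by group
      _ = g⁻¹ * (g * i1 (-1) * g⁻¹ * (i1 b * i2 c)) * g := by rw [e, mm, mm, b2, e', ← mm, zz, one_mul]
      _ = _ := by group
  have k2 : ∀ c, c * c = -1 → g⁻¹ * (i1 b * i2 c) * g * (g⁻¹ * (i1 b * i2 c) * g) = 1 := fun c e' => by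
    calc _ = g⁻¹ * (i1 b * i2 c * (i1 b * i2 c)) * g := by group
      _ = _ := by rw [mm, b1, e', zz]; group
  refine ⟨e2, _, _, k d d2, k _ d4, k2 d d1, k2 _ d3, ?_, fun e => ne ?_⟩
  · calc _ = g⁻¹ * (i1 b * i2 d * (i1 b * i2 (d * n)) * ((i2 d)⁻¹ * (i1 b)⁻¹) * ((i2 (d * n))⁻¹ * (i1 b)⁻¹)) * g := by group
      _ = _ := by
        rw [← map_inv, ← map_inv, ← map_inv, ← h.comm, ← h.comm, mm, mm, mm, d5, ← h.z]; simp
  · nth_rewrite 1 [← e]; group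

theorem nz {g : G} {m n : SL3} (ne : g⁻¹ * i1 (-1) * g ≠ i1 (-1)) (hm : m = 1 ∨ m = -1) :
    g⁻¹ * i1 (-1) * g ≠ i1 m * i2 n := fun e => by
  obtain ⟨k, e⟩ : ∃ k, g⁻¹ * i1 (-1) * g = i2 k := by
    rcases hm with rfl | rfl
    exacts [⟨n, by rw [e, map_one, one_mul]⟩, ⟨-1 * n, by rw [e, map_mul, h.z]⟩]
  have : k * k = 1 := h.j2 (by
    rw [map_mul, ← e, map_one, ← inv_mul_cancel g]; nth_rewrite 6 [← one_mul g]; rw [← h.zz, ← h.z]; group)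
  rcases (by decide +kernel : ∀ c : SL3, c * c = 1 → c = 1 ∨ c = -1) k this with rfl | rfl
  · exact h.z1 (by rw [map_one, mul_assoc, inv_mul_eq_one] at e; simpa using e)
  · exact ne (e.trans h.z.symm)

theorem sq (hw : ∀ m, w * w * i1 m * (w * w)⁻¹ = i1 m) {a b : SL3} (e : w * w = i1 a * i2 b) : a = 1 ∨ a = -1 := by
  have k : ∀ m, a * m * a⁻¹ = m := fun m => h.j1 (by
    rw [← hw m, e, mul_assoc (i1 a), ← h.comm m, map_mul, map_mul, map_inv]; group)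
  exact (by decide +kernel : ∀ a : SL3, a * sX * a⁻¹ = sX → a * sA * a⁻¹ = sA → a = 1 ∨ a = -1) a (k _) (k _)

omit [Group G] h in
theorem cm {m m' : SL3} (h1 : m * m = 1 ∨ m * m = -1) (h2 : m' * m' = 1 ∨ m' * m' = -1) :
    m * m' * m⁻¹ * m'⁻¹ = 1 ∨ m * m' * m⁻¹ * m'⁻¹ = -1 := by
  revert m m'; decide +kernel

theorem not_cent (hw : ∀ m, w * i1 m * w⁻¹ = i1 m) {g : G} {m n : SL3} (e : g * i1 (-1) * g⁻¹ = i1 m * i2 n) :
    g * i1 (-1) * g⁻¹ = i1 (-1) := by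
  by_contra ne
  obtain ⟨-, p, q, p1, q1, p2, q2, e1, e2⟩ := h.exists_pq e ne
  obtain ⟨a, b, hab⟩ := h.ww
  have ha := h.sq (fun m => by rw [mul_inv_rev, ← mul_assoc, mul_assoc w w, mul_assoc w, hw, hw]) hab
  have k : ∀ p, p * i1 (-1) = i1 (-1) * p → p * p = 1 → ∃ m n u, p = i1 m * i2 n * u ∧ (m * m = 1 ∨ m * m = -1) ∧
      (u = 1 ∨ u = w) := fun p p1 p2 => by
    obtain ⟨m, n, rfl | rfl⟩ := h.idx p p1
    · exact ⟨m, n, 1, (mul_one _).symm, (h.pm ((h.mm ..).symm.trans p2)).imp (·.1) (·.1), .inl rfl⟩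
    · obtain ⟨r, hr⟩ := h.n2 w h.wz n
      have : i1 (m * m * a) * i2 (n * r * b) = 1 := by
        rw [← h.mm, ← h.mm, ← hab, ← hr, ← p2]; nth_rewrite 2 [← hw]; group
      exact ⟨m, n, w, rfl, (by decide +kernel : ∀ c a : SL3, a = 1 ∨ a = -1 → c * a = 1 ∨ c * a = -1 → c = 1 ∨ c = -1) _ a ha
        ((h.pm this).imp (·.1) (·.1)), .inr rfl⟩
  obtain ⟨m1, n1, u1, rfl, s1, t1⟩ := k p p1 p2
  obtain ⟨m2, n2, u2, rfl, s2, t2⟩ := k q q1 q2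
  have f : ∀ u, u = 1 ∨ u = w → ∀ m n, ∃ r, u * (i1 m * i2 n) * u⁻¹ = i1 m * i2 r := by
    rintro u (rfl | rfl) m n
    · exact ⟨n, by group⟩
    · obtain ⟨r, hr⟩ := h.n2 u h.wz n
      exact ⟨r, by rw [← conj_mul, hw, hr]⟩
  have c : u1 * u2 * u1⁻¹ = u2 := by rcases t1 with rfl | rfl <;> rcases t2 with rfl | rfl <;> group
  obtain ⟨r1, hr1⟩ := f u1 t1 m2 n2
  obtain ⟨r2, hr2⟩ := f u2 t2 m1⁻¹ n1⁻¹
  refine h.nz (n := n1 * r1 * r2 * n2⁻¹) e2 (cm s1 s2) (e1.symm.trans ?_)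
  rw [← h.mm, ← h.mm, ← h.mm, ← hr1, ← hr2, ← h.iv, ← h.iv]
  nth_rewrite 3 [← c]
  group

theorem not_z (h1 : ∀ m, w * i1 m * w⁻¹ = i1 (σ m)) (h2 : ∀ m, w * i2 m * w⁻¹ = i2 (σ m)) {g : G} {m n : SL3}
    (e : g * i1 (-1) * g⁻¹ = i1 m * i2 n) (ne : g * i1 (-1) * g⁻¹ ≠ i1 (-1)) : w * w = 1 := by
  obtain ⟨a, b, hab⟩ := h.ww
  have ss : ∀ m, σ (σ m) = m := by decide +kernel
  have ha := h.sq (fun m => by rw [mul_inv_rev, ← mul_assoc, mul_assoc w w, mul_assoc w, h1, h1, ss]) hab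
  have hb := h.symm.sq (fun m => by rw [mul_inv_rev, ← mul_assoc, mul_assoc w w, mul_assoc w, h2, h2, ss]) (hab.trans (h.comm ..))
  by_contra hw
  have wz : w * w = i1 (-1) * i2 1 := by
    rcases ha with rfl | rfl <;> rcases hb with rfl | rfl
    exacts [absurd (by simpa using hab) hw, by rw [hab, h.z]; simp, hab, absurd (hab.trans h.zz) hw]
  obtain ⟨-, p, q, p1, q1, p2, q2, e1, e2⟩ := h.exists_pq e ne
  have k : ∀ p, p * i1 (-1) = i1 (-1) * p → p * p = 1 → ∃ m n, p = i1 m * i2 n ∧ (m * m = 1 ∨ m * m = -1) := fun p p1 p2 => by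
    obtain ⟨m, n, rfl | rfl⟩ := h.idx p p1
    · exact ⟨m, n, rfl, (h.pm ((h.mm ..).symm.trans p2)).imp (·.1) (·.1)⟩
    · have : i1 (m * σ m * -1) * i2 (n * σ n * 1) = 1 := by
        rw [← h.mm, ← h.mm, ← wz, ← h1, ← h2, ← p2]; group
      rcases h.pm this with k | k
      exacts [absurd k.1 ((by decide +kernel : ∀ m : SL3, m * σ m * -1 ≠ 1) m),
        absurd k.2 ((by decide +kernel : ∀ m : SL3, m * σ m * 1 ≠ -1) n)]
  obtain ⟨m1, n1, rfl, s1⟩ := k p p1 p2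
  obtain ⟨m2, n2, rfl, s2⟩ := k q q1 q2
  exact h.nz e2 (cm s1 s2) (by rw [← e1, h.iv, h.iv, h.mm, h.mm, h.mm])

theorem good [Finite G] (h1 : ∀ m, w * i1 m * w⁻¹ = i1 (σ m)) (h2 : ∀ m, w * i2 m * w⁻¹ = i2 (σ m)) {g : G} {m n : SL3}
    (e : g * i1 (-1) * g⁻¹ = i1 m * i2 n) (ne : g * i1 (-1) * g⁻¹ ≠ i1 (-1)) : Nonempty (G ≃* PG) := by
  have ww := h.not_z h1 h2 e ne
  have q : ∀ {a b c d}, (a = c ∧ b = d) ∨ (a = -1 * c ∧ b = -1 * d) → i1 a * i2 b = i1 c * i2 d := by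
    rintro a b c d (⟨rfl, rfl⟩ | ⟨rfl, rfl⟩)
    exacts [rfl, by rw [← h.mm, h.zz, one_mul]]
  have o : (1 : G) = i1 1 * i2 1 := by simp
  have t : ∀ a b, w * (i1 a * i2 b) * (w * (i1 a * i2 b)) = i1 (σ a * a) * i2 (σ b * b) := fun a b => by
    rw [← h.mm, ← h1, ← h2, inv_eq_of_mul_eq_one_right ww, mul_assoc w (i1 a) w, mul_assoc w (i2 b) w, mul_assoc w (i1 a * w),
      mul_assoc (i1 a) w, ← mul_assoc w w, ww]; group
  obtain ⟨φ, hφ⟩ := exists_homG (a := i1 sA * i2 1) (b := i1 (sX * sA * sX⁻¹) * i2 1) (c := i1 1 * i2 sA)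
    (d := i1 1 * i2 (sX * sA * sX⁻¹)) (x := i1 sX * i2 sX) (t := w) (w := i1 sX * i2 1)
    (by simp only [RN, h.iv, h.mm]; rw [o]; refine ⟨?_, ?_, ?_, ?_, ?_, ?_, ?_, ?_, ?_, ?_, ?_, ?_, ?_, ?_, ?_⟩ <;>
          exact q (by decide +kernel))
    ⟨ww, by simp only [h.iv, h.mm, t]; rw [o]; refine ⟨?_, ?_, ?_, ?_, ?_, ?_, ?_, ?_, ?_, ?_⟩ <;> exact q (by decide +kernel)⟩
  have a1 : φ (HG.gn 1) = i1 sA * i2 1 := hφ 1 (by decide)
  have a5 : φ (HG.gn 5) = i1 1 * i2 sA := hφ 5 (by decide)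
  have a9 : φ (HG.gn 9) = i1 sX * i2 sX := hφ 9 (by decide)
  have a11 : φ (HG.gn 11) = w := hφ 11 (by decide)
  have a12 : φ (HG.gn 12) = i1 sX * i2 1 := hφ 12 (by decide)
  have z : φ (HG.el 16) = i1 (-1) := by
    rw [show HG.el 16 = HG.gn 1 * HG.gn 1 by decide +kernel, map_mul, a1, h.mm, mul_one, map_one, mul_one,
      show sA * sA = -1 by decide +kernel]
  have r1 : ∀ m, i1 m ∈ φ.range := gen3 (K := φ.range.comap i1) ⟨_, by rw [a12]; simp⟩ ⟨_, by rw [a1]; simp⟩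
  have r2 : ∀ m, i2 m ∈ φ.range := gen3 (K := φ.range.comap i2) ⟨(HG.gn 12)⁻¹ * HG.gn 9, by rw [map_mul, map_inv, a12, a9]; simp⟩
    ⟨_, by rw [a5]; simp⟩
  refine HG.main (φ := φ) ⟨HG.inj (z ▸ h.z1), fun g hg => ?_, by decide +kernel, by decide +kernel, by decide +kernel⟩ ?_
  · obtain ⟨m, n, rfl | rfl⟩ := h.idx g (z ▸ hg)
    exacts [mul_mem (r1 m) (r2 n), mul_mem (mul_mem (r1 m) (r2 n)) ⟨_, a11⟩]
  · obtain ⟨⟨e1, e2⟩, -⟩ := h.exists_pq e ne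
    have f : ∀ m : SL3, m * m = -1 → ∃ k, k * m * k⁻¹ = sA := by decide +kernel
    obtain ⟨k, hk⟩ := f m e1
    obtain ⟨l, hl⟩ := f n e2
    refine isConj_iff.2 ⟨i1 k * i2 l * g, ?_⟩
    rw [z, show HG.el 5 = HG.gn 1 * HG.gn 5 by decide +kernel, map_mul, a1, a5, h.mm, mul_one, one_mul,
      ← congrArg i1 hk, ← congrArg i2 hl, ← h.mm, ← h.mm, ← e, ← h.iv]
    group

theorem init [Finite G] {g : G} {m n : SL3} (e : g * i1 (-1) * g⁻¹ = i1 m * i2 n) (ne : g * i1 (-1) * g⁻¹ ≠ i1 (-1)) :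
    Nonempty (G ≃* PG) := by
  obtain ⟨k, hk | hk⟩ := norm3 h.j1 (h.n1 w h.wz)
  · exact absurd ((h.mul k).not_cent hk e) ne
  have h' := (h.mul k).symm
  obtain ⟨l, hl | hl⟩ := norm3 h'.j1 (h'.n1 _ h'.wz)
  · exact absurd (h.z ▸ (h'.mul l).not_cent hl (g := g) (m := n) (n := m) (by rw [← h.z, e, h.comm])) ne
  refine (h'.mul l).symm.good (fun p => ?_) hl e ne
  calc _ = i2 l * (i1 k * w * i1 p * (i1 k * w)⁻¹) * (i2 l)⁻¹ := by group
    _ = _ := by rw [hk, ← h.comm]; group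

end Two

end Cfsg.Lib.G23
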