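import Cfsg.Agent.Lib.G23.Rec
import Cfsg.Agent.Lib.X32.NV
import Cfsg.Agent.Lib.X32.CaseB
import Cfsg.Agent.Lib.SmT.Main
import Cfsg.Agent.Lib.BS.Bro

/-!
# Groups with the involution centraliser of `G₂(3)`
-/

set_option maxRecDepth 100000
set_option synthInstance.maxSize 100000
set_option synthInstance.maxHeartbeats 200000
set_option Elab.async false

namespace Cfsg.Lib.G23

open Subgroup Cfsg.Lib.Transfer Cfsg.Lib.Invol Cfsg.Lib.X32 Cfsg.Lib.Comp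

universe u

variable {G : Type u} [Group G] [Finite G] {φ : HG →* G} {y g u : G}

local notation "⟪" n "⟫" => HG.el n

local instance : Fact (Nat.Prime 2) := ⟨Nat.prime_two⟩
local instance : Fact (Nat.Prime 3) := ⟨Nat.prime_three⟩

namespace HG

/-- Word codes in the centraliser of `⟪5⟫`. -/
def cd (h : HG) : ℕ := Nat.mod (Nat.shiftRight 0x1312003231000000000000002313003121000000000000000000000000000121000321000000000000000312023131000032000012000000000000000021000023000000000000000000000000000323013121000000000000000231000002000000000000000000000000000000000000000000000000000000000000000000000000000000000000000000000000000000000000000000000000000000000000000000000000000000000000000000000000000000000000000000000000000000000000000000000000000000000000000000000000000000000000000000000000000000000000000000000000000000000000000000000000000000000000000000000000000000000000000000000000000000000000000000000000032121032321000000000000000313000131000000000000000000000000002121002321000000000000000013003131000232000212000000000000000001000003000000000000000000000000003232003212000000000000000031000000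 (Nat.mul 24 (ix h))) 16777216

theorem hcd : (⟪5⟫ * ⟪5⟫ = 1 ∧ ⟪13⟫ * ⟪5⟫ * ⟪13⟫⁻¹ = ⟪5⟫ * ⟪16⟫ ∧ ⟪13⟫ * ⟪13⟫ = 1 ∧ In ⟪5⟫ ⟪11⟫ ∧ In ⟪5⟫ ⟪96⟫ ∧ In ⟪5⟫ ⟪10⟫) ∧
    ∀ h, h * ⟪5⟫ = ⟪5⟫ * h → rho cd ⟪11⟫ ⟪96⟫ ⟪10⟫ h = h := by decide +kernel

theorem sols : ∀ a, In ⟪5⟫ a → ∀ c, In ⟪5⟫ c → a * c * (a * c) = ⟪5⟫ → ∀ b, In ⟪5⟫ b → Cond cd ⟪16⟫ ⟪5⟫ ⟪13⟫ ⟪11⟫ ⟪96⟫ ⟪10⟫ a b c →
    [ix a, ix b, ix c] ∈ [[11, 10, 100], [11, 15, 116], [14, 26, 113], [14, 31, 97], [96, 100, 10], [101, 100, 31],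
      [112, 97, 10], [117, 97, 31]] := by decide +kernel

/-- The Sylow `2`-subgroup. -/
abbrev T : Subgroup HG := sg (fun h => h.n.1 < 32 ∧ h.s.1 < 2) (by decide +kernel)

/-- The Sylow `3`-subgroup. -/
abbrev D : Subgroup HG := sg (fun h => h.n.1 % 32 = 0 ∧ h * h * h = 1) (by decide +kernel)

theorem sylT (su : Su φ ⟪16⟫) : SylowIn 2 (T.map φ) ⊤ :=
  su.syl (by decide +kernel) le_top (by decide +kernel) (fun c h1 h2 h3 => ((by decide +kernel : ∀ c ∈ T,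
    c * ⟪1⟫ = ⟪1⟫ * c → c * ⟪2⟫ = ⟪2⟫ * c → c * ⟪4⟫ = ⟪4⟫ * c → c * ⟪8⟫ = ⟪8⟫ * c → c = 1 ∨ c = ⟪16⟫) c h1
      (h2 _ (by decide +kernel)).symm (h2 _ (by decide +kernel)).symm (h2 _ (by decide +kernel)).symm
      (h2 _ (by decide +kernel)).symm).resolve_left (su.fz_sq h3).2)
    fun a _ h => (by decide +kernel : ∀ a, a * ⟪96⟫ * a⁻¹ ∈ T → a ∈ T) a (h _ (by decide +kernel))

omit [Finite G] in
theorem aut (su : Su φ ⟪16⟫) (hy : Y3 φ ⟪16⟫ ⟪5⟫ ⟪13⟫ y) {a' b' c' : HG} (h1 : Cj φ y ⟪11⟫ a') (h2 : Cj φ y ⟪96⟫ b')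
    (h3 : Cj φ y ⟪10⟫ c') (a b c d x t w : HG) (e : (RN a b c d x ∧ RW a b c d x t w) ∧
      (∀ p ∈ [16, 5, 13], evc (lg a b c d x t w) 8 (wd ⟪p⟫) = ⟪p⟫) ∧ ∀ p ∈ [[11, 112], [96, 97], [10, 10]],
        evc (lg a b c d x t w) 8 (wd ⟪p.head!⟫) * ⟪5⟫ = ⟪5⟫ * evc (lg a b c d x t w) 8 (wd ⟪p.head!⟫) ∧
        rho cd a' b' c' (evc (lg a b c d x t w) 8 (wd ⟪p.head!⟫)) = evc (lg a b c d x t w) 8 (wd ⟪p.getLast!⟫)) :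
    ∃ φ : HG →* G, Su φ ⟪16⟫ ∧ Y3 φ ⟪16⟫ ⟪5⟫ ⟪13⟫ y ∧ Cj φ y ⟪11⟫ ⟪112⟫ ∧ Cj φ y ⟪96⟫ ⟪97⟫ ∧ Cj φ y ⟪10⟫ ⟪10⟫ := by
  obtain ⟨α, hα⟩ := exists_homG e.1.1 e.1.2
  have k : ∀ p ∈ [16, 5, 13], α ⟪p⟫ = ⟪p⟫ := fun p hp => (HG.eval hα _).trans (e.2.1 p hp)
  have k1 := k 16 (by simp)
  have k2 := k 5 (by simp)
  have k3 := k 13 (by simp)
  have r : ∀ p ∈ [[11, 112], [96, 97], [10, 10]], Cj (φ.comp α) y ⟪p.head!⟫ ⟪p.getLast!⟫ := fun p hp => by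
    rw [Cj.comp_iff, HG.eval hα, HG.eval hα, ← (e.2.2 p hp).2]
    exact Cj.rho h1 h2 h3 (hcd.2 _ (e.2.2 p hp).1)
  refine ⟨φ.comp α, su.comp (inj (k1.symm ▸ su.z1)) k1, ⟨hy.y3, ?_, ?_, ?_⟩, r [11, 112] (by simp), r [96, 97] (by simp),
    r [10, 10] (by simp)⟩
  · rw [MonoidHom.comp_apply, k3]; exact hy.jy
  · rw [Cj.comp_iff, k1, k2]; exact hy.yz
  · rw [Cj.comp_iff, map_mul, k1, k2]; exact hy.ys

omit [Finite G] in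
theorem exists_st (su : Su φ ⟪16⟫) (h5 : Fz φ ⟪16⟫ ⟪5⟫) : ∃ φ : HG →* G, Su φ ⟪16⟫ ∧ ∃ y g, St φ y g := by
  obtain ⟨g, h1, h2⟩ := su.sym hM h5 (by decide +kernel) (p := ⟪1⟫) (q := ⟪10⟫) (by decide +kernel) (by decide +kernel)
    (by decide +kernel)
  obtain ⟨y, hy⟩ := su.exists_Y3 (j := ⟪13⟫) h1 h2 (by decide +kernel) (by decide +kernel) (by decide +kernel)
    (by decide +kernel)
  obtain ⟨a, a1, b, b1, c, c1, hc, a2, b2, c2⟩ := su.exists_rho hy hcd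
  have := sols a a1 c c1 ((((a2.mul c2).mul (a2.mul c2)).cast (by decide +kernel) rfl).uniq su.inj hy.yz) b b1 hc
  rw [← (el_ix a).2] at a2
  rw [← (el_ix b).2] at b2
  rw [← (el_ix c).2] at c2
  obtain ⟨φ, su, hy, a1, a2, a3⟩ : ∃ φ : HG →* G, Su φ ⟪16⟫ ∧ Y3 φ ⟪16⟫ ⟪5⟫ ⟪13⟫ y ∧ Cj φ y ⟪11⟫ ⟪112⟫ ∧
      Cj φ y ⟪96⟫ ⟪97⟫ ∧ Cj φ y ⟪10⟫ ⟪10⟫ := by
    simp only [List.mem_cons, List.cons.injEq, List.not_mem_nil, or_false, and_true] at this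
    rcases this with ⟨e1, e2, e3⟩ | ⟨e1, e2, e3⟩ | ⟨e1, e2, e3⟩ | ⟨e1, e2, e3⟩ | ⟨e1, e2, e3⟩ | ⟨e1, e2, e3⟩ | ⟨e1, e2, e3⟩ |
      ⟨e1, e2, e3⟩ <;> rw [e1] at a2 <;> rw [e2] at b2 <;> rw [e3] at c2
    · exact aut su hy a2 b2 c2 ⟪1⟫ ⟪3⟫ ⟪4⟫ ⟪8⟫ ⟪226⟫ ⟪97⟫ ⟪291⟫ (by decide +kernel)
    · exact aut su hy a2 b2 c2 ⟪1⟫ ⟪3⟫ ⟪4⟫ ⟪8⟫ ⟪226⟫ ⟪113⟫ ⟪291⟫ (by decide +kernel)
    · exact aut su hy a2 b2 c2 ⟪1⟫ ⟪19⟫ ⟪4⟫ ⟪8⟫ ⟪227⟫ ⟪97⟫ ⟪289⟫ (by decide +kernel)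
    · exact aut su hy a2 b2 c2 ⟪1⟫ ⟪19⟫ ⟪4⟫ ⟪8⟫ ⟪227⟫ ⟪113⟫ ⟪289⟫ (by decide +kernel)
    · exact aut su hy a2 b2 c2 ⟪1⟫ ⟪2⟫ ⟪4⟫ ⟪8⟫ ⟪32⟫ ⟪112⟫ ⟪192⟫ (by decide +kernel)
    · exact aut su hy a2 b2 c2 ⟪1⟫ ⟪18⟫ ⟪4⟫ ⟪8⟫ ⟪50⟫ ⟪112⟫ ⟪211⟫ (by decide +kernel)
    · exact aut su hy a2 b2 c2 ⟪1⟫ ⟪2⟫ ⟪4⟫ ⟪8⟫ ⟪32⟫ ⟪96⟫ ⟪192⟫ (by decide +kernel)
    · exact aut su hy a2 b2 c2 ⟪1⟫ ⟪18⟫ ⟪4⟫ ⟪8⟫ ⟪50⟫ ⟪96⟫ ⟪211⟫ (by decide +kernel)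
  have r : ∀ p q r s : ℕ, (⟪p⟫ * ⟪5⟫ = ⟪5⟫ * ⟪p⟫ ∧ rho cd ⟪112⟫ ⟪97⟫ ⟪10⟫ ⟪p⟫ = ⟪r⟫) ∧ ⟪364⟫ * ⟪p⟫ * ⟪364⟫⁻¹ = ⟪q⟫ ∧
      ⟪q⟫ * ⟪5⟫ = ⟪5⟫ * ⟪q⟫ ∧ rho cd ⟪112⟫ ⟪97⟫ ⟪10⟫ ⟪q⟫ = ⟪s⟫ → Cj φ (y * φ ⟪364⟫ * y⁻¹) ⟪r⟫ ⟪s⟫ := fun p q r s e =>
    ((((Cj.rho a1 a2 a3 (hcd.2 _ e.1.1)).cast rfl e.1.2).symm.comp ((Cj.of _ _).cast rfl e.2.1)).comp
      ((Cj.rho a1 a2 a3 (hcd.2 _ e.2.2.1)).cast rfl e.2.2.2)).cast' (mul_assoc _ _ _).symm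
  exact ⟨φ, su, y, _, hy.y3, a1, a2, a3, hy.jy, hy.yz, rfl, r 21 14 16 96 (by decide +kernel),
    r 14 11 96 112 (by decide +kernel), r 16 16 5 5 (by decide +kernel)⟩

end HG

open HG

theorem St.exists_u (su : Su φ ⟪16⟫) (h : St φ y g) : ∃ u, u ≠ 1 ∧ Odd (orderOf u) ∧ φ ⟪16⟫ * u * (φ ⟪16⟫)⁻¹ = u⁻¹ ∧
    Cj φ u ⟪192⟫ ⟪192⟫ ∧ Cj φ u ⟪32⟫ ⟪32⟫ ∧ (Cj φ u ⟪96⟫ ⟪96⟫ ∨ Cj φ u ⟪112⟫ ⟪112⟫) := by
  classical
  set C := centralizer (D.map φ : Set G) with hC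
  have mC : ∀ c ∈ C, Cj φ c ⟪192⟫ ⟪192⟫ ∧ Cj φ c ⟪32⟫ ⟪32⟫ := fun c hc =>
    ⟨.of_comm (hc _ (mem_map_of_mem φ (by decide +kernel))).symm, .of_comm (hc _ (mem_map_of_mem φ (by decide +kernel))).symm⟩
  have mC' : ∀ k, φ k ∈ C → k ∈ D ∨ k * ⟪16⟫ ∈ D := fun k hk =>
    (by decide +kernel : ∀ k, k * ⟪192⟫ * k⁻¹ = ⟪192⟫ → k * ⟪32⟫ * k⁻¹ = ⟪32⟫ → k ∈ D ∨ k * ⟪16⟫ ∈ D) k
      ((Cj.of k _).uniq su.inj (mC _ hk).1) ((Cj.of k _).uniq su.inj (mC _ hk).2)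
  have zz : φ ⟪16⟫ * φ ⟪16⟫ = 1 := by rw [← map_mul, su.zz, map_one]
  have z1 : φ ⟪16⟫ ≠ 1 := fun e => su.z1 (su.eq (e.trans (map_one φ).symm))
  have zC : φ ⟪16⟫ ∈ C := by rintro _ ⟨d, -, rfl⟩; rw [← map_mul, su.zc, map_mul]
  have o2 : orderOf (φ ⟪16⟫) = 2 := orderOf_eq_prime (by rwa [pow_two]) z1
  have mZ : ∀ a ∈ zpowers (φ ⟪16⟫), a = 1 ∨ a = φ ⟪16⟫ := fun a ha => by
    obtain ⟨n, hn, rfl⟩ := Finset.mem_image.1 (mem_zpowers_iff_mem_range_orderOf.1 ha)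
    rw [o2, Finset.mem_range] at hn
    interval_cases n <;> simp
  have nZ : normalizer (zpowers (φ ⟪16⟫) : Set G) ≤ centralizer (zpowers (φ ⟪16⟫) : Set G) := fun n hn a ha => by
    rcases mZ a ha with rfl | rfl
    · simp
    rcases mZ _ (conj_mem_of_mem_normalizer hn ha) with e | e
    · exact absurd (conj_eq_one_iff.1 e) z1
    · exact (mul_inv_eq_iff_eq_mul.1 e).symm
  have inv2 : ∀ k, φ k ∈ C → k * k * (k * k) = 1 → k = 1 ∨ k = ⟪16⟫ := fun k h1 =>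
    (by decide +kernel : ∀ k, k ∈ D ∨ k * ⟪16⟫ ∈ D → k * k * (k * k) = 1 → k = 1 ∨ k = ⟪16⟫) k (mC' k h1)
  have p2 : IsPGroup 2 (zpowers (φ ⟪16⟫)) := IsPGroup.of_card (n := 1) (by rw [Nat.card_zpowers, o2]; rfl)
  have hS : SylowIn 2 (zpowers (φ ⟪16⟫)) C := sylowIn_of_maximal (zpowers_le.2 zC) p2 fun Q hQ h1 h2 => by
    by_contra hc
    obtain ⟨a, ⟨h3, h4⟩, h5⟩ := SetLike.exists_of_lt (lt_inf_normalizer hQ (lt_of_le_of_ne h1 fun e => hc e.ge))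
    obtain ⟨k, rfl⟩ := su.cen a (nZ h4 _ (mem_zpowers _)).symm
    obtain ⟨n, hn⟩ := hQ ⟨_, h3⟩
    have e : φ (k * k) ^ 2 ^ n = 1 := by rw [map_mul, ← pow_two, ← pow_mul, mul_comm, pow_mul, show φ k ^ 2 ^ n = 1 from
      congrArg Subtype.val hn, one_pow]
    have e3 : φ (k * k) ^ 3 = 1 := by
      rw [← map_pow, (by decide +kernel : ∀ k, k ∈ D ∨ k * ⟪16⟫ ∈ D → (k * k) ^ 3 = 1) k (mC' k (h2 h3)), map_one]
    have e1 : k * k = 1 := su.eq ((pow_eq_one_iff_of_coprime (Nat.Coprime.pow_left n (by norm_num))).1 ⟨e, e3⟩ |>.trans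
      (map_one φ).symm)
    rcases inv2 k (h2 h3) (by rw [e1, one_mul]) with rfl | rfl
    exacts [h5 (map_one φ ▸ one_mem _), h5 (mem_zpowers _)]
  have pn := hS.pnil_of_normalizer_le_centralizer (inf_le_right.trans nZ)
  set O := resOf 2 C with hO
  have nC : ∀ n ∈ normalizer (D.map φ : Set G), n ∈ normalizer (C : Set G) := fun n hn => by
    rw [← cj_eq_iff, hC, cj_centralizer, cj_eq_iff.2 hn]
  have nD' : ∀ k, (∀ d ∈ D, k * d * k⁻¹ ∈ D) → φ k ∈ normalizer (D.map φ : Set G) := fun k hk =>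
    mem_normalizer_of_cj_le (cj_le_iff.2 (by rintro _ ⟨d, hd, rfl⟩; exact ⟨_, hk d hd, Eq.symm (Cj.of k d)⟩))
  have nD : ∀ k, (∀ d ∈ D, k * d * k⁻¹ ∈ D) → φ k ∈ normalizer (O : Set G) := fun k hk =>
    normalizer_le_normalizer_resOf C (nC _ (nD' k hk))
  have odd : ∀ a ∈ O, Odd (orderOf a) := fun a ha =>
    Nat.coprime_two_right.1 (pn.coprime.coprime_dvd_left (orderOf_dvd_natCard O ha))
  have zO := le_normalizer_resOf (p := 2) C zC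
  have key : ∀ t, (∀ k, k ∈ D ∨ k * ⟪16⟫ ∈ D → k * t = t * k → k * k = 1) → ∀ d ∈ O, d ≠ 1 → Commute d (φ t) → ∃ u, u ≠ 1 ∧
      Odd (orderOf u) ∧ φ ⟪16⟫ * u * (φ ⟪16⟫)⁻¹ = u⁻¹ ∧ Cj φ u ⟪192⟫ ⟪192⟫ ∧ Cj φ u ⟪32⟫ ⟪32⟫ ∧ Cj φ u t t := by
    intro t t1 d d1 d2 d3
    have m : d * (φ ⟪16⟫ * d⁻¹ * (φ ⟪16⟫)⁻¹) ∈ O := mul_mem d1 (conj_mem_of_mem_normalizer zO (inv_mem d1))
    have c1 : Cj φ d t t := .of_comm d3
    have c2 : Cj φ (φ ⟪16⟫) t t := .of_comm (by rw [← map_mul, ← su.zc, map_mul])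
    refine ⟨_, fun e => d2 ?_, odd _ m, ?_, (mC _ (resOf_le C m)).1, (mC _ (resOf_le C m)).2,
      (((c2.symm.comp c1.symm).comp c2).comp c1).cast' (by group)⟩
    · obtain ⟨k, rfl⟩ := su.cen d (by
        calc _ = (d * (φ ⟪16⟫ * d⁻¹ * (φ ⟪16⟫)⁻¹))⁻¹ * d * φ ⟪16⟫ := by rw [e]; group
          _ = _ := by group)
      have e2 := t1 k (mC' k (resOf_le C d1)) (su.eq (by rw [map_mul, map_mul, d3.eq]))
      exact eq_one_of_odd_of_inv (odd _ d1) (inv_eq_of_mul_eq_one_right (by rw [← map_mul, e2, map_one]))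
    · rw [mul_inv_rev, mul_inv_rev, mul_inv_rev, inv_inv, inv_inv, inv_eq_of_mul_eq_one_right zz]
      calc _ = φ ⟪16⟫ * d * φ ⟪16⟫ * d⁻¹ * (φ ⟪16⟫ * φ ⟪16⟫) := by group
        _ = _ := by rw [zz]; group
  by_contra hc
  have k1 : ∀ d ∈ O, Commute d (φ ⟪96⟫) → d = 1 := fun d d1 d3 => by_contra fun d2 => by
    obtain ⟨u, a1, a2, a3, a4, a5, a6⟩ := key _ (by decide +kernel) d d1 d2 d3
    exact hc ⟨u, a1, a2, a3, a4, a5, .inl a6⟩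
  have k2 : ∀ d ∈ O, Commute d (φ ⟪112⟫) → d = 1 := fun d d1 d3 => by_contra fun d2 => by
    obtain ⟨u, a1, a2, a3, a4, a5, a6⟩ := key _ (by decide +kernel) d d1 d2 d3
    exact hc ⟨u, a1, a2, a3, a4, a5, .inr a6⟩
  have CH : C ≤ φ.range := by
    rw [← hS.resOf_sup]
    refine sup_le (fun d hd => su.cen d ?_) (zpowers_le.2 ⟨_, rfl⟩)
    have a := inverts_of_fpf (by rw [← map_mul, show ⟪96⟫ * ⟪96⟫ = 1 by decide +kernel, map_one])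
      (nD _ (by decide +kernel)) k1 d hd
    have b := inverts_of_fpf (by rw [← map_mul, show ⟪112⟫ * ⟪112⟫ = 1 by decide +kernel, map_one])
      (nD _ (by decide +kernel)) k2 _ (inv_mem hd)
    rw [← a] at b
    rw [show ⟪16⟫ = ⟪112⟫ * ⟪96⟫ by decide +kernel, map_mul, eq_comm, ← mul_inv_eq_iff_eq_mul,
      show φ ⟪112⟫ * φ ⟪96⟫ * d * (φ ⟪112⟫ * φ ⟪96⟫)⁻¹ = φ ⟪112⟫ * (φ ⟪96⟫ * d * (φ ⟪96⟫)⁻¹) * (φ ⟪112⟫)⁻¹ by group,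
      b, a, inv_inv]
  have NH : ∀ n ∈ normalizer (D.map φ : Set G), ∃ k, φ k = n ∧ ∀ d ∈ D, k * d * k⁻¹ ∈ D := fun n hn => by
    have a := conj_mem_of_mem_normalizer (nC n hn) zC
    obtain ⟨p, hp⟩ := CH a
    have b : Cj φ n ⟪16⟫ p := hp.symm
    rcases inv2 p (hp ▸ a) (by rw [((b.mul b).cast su.zz rfl).uniq su.inj Cj.one, one_mul]) with rfl | rfl
    · exact absurd (b.symm.uniq su.inj Cj.one) su.z1
    obtain ⟨k, rfl⟩ := su.cen n b.comm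
    refine ⟨k, rfl, fun d hd => ?_⟩
    obtain ⟨e, e1, e2⟩ := conj_mem_of_mem_normalizer hn (mem_map_of_mem φ hd)
    rwa [(Cj.of k d).uniq su.inj e2.symm]
  have p3 : IsPGroup 3 (D.map φ) := IsPGroup.map (fun a => ⟨1, Subtype.ext (by rw [pow_one, pow_three']; exact a.2.2)⟩) φ
  have hD : SylowIn 3 (D.map φ) ⊤ := sylowIn_of_maximal le_top p3 fun Q hQ h1 _ => by
    by_contra hc
    obtain ⟨a, ⟨h3, h4⟩, h5⟩ := SetLike.exists_of_lt (lt_inf_normalizer hQ (lt_of_le_of_ne h1 fun e => hc e.ge))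
    obtain ⟨k, rfl, hk⟩ := NH a h4
    rcases (by decide +kernel : ∀ k, k * ⟪192⟫ * k⁻¹ ∈ D → k * ⟪32⟫ * k⁻¹ ∈ D → k ∈ D ∨ (k ^ 3 ≠ 1 ∧ k ^ 3 = (k ^ 3)⁻¹)) k
      (hk _ (by decide +kernel)) (hk _ (by decide +kernel)) with e | ⟨e, e'⟩
    · exact h5 (mem_map_of_mem φ e)
    · exact e (su.eq ((SmT.eq_one_of_inv (by norm_num) hQ (map_pow φ k 3 ▸ pow_mem h3 3)
        (by rw [← map_inv, ← e'])).trans (map_one φ).symm))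
  obtain ⟨P, hP⟩ := hD.exists_sylow_top
  have f5 : Fz φ ⟪16⟫ ⟪5⟫ := Fz.refl.cj h.a5
  have hn := SmT.normal_of_inv (by norm_num) (Core.pPrimeCore_eq_bot_iff.2 fun N hN cN => su.bot (fun _ => HG.inj) f5
      ((f5.cj (Cj.of ⟪2⟫ _)).cj (Cj.id.cast rfl (by decide +kernel))) hN fun e => by
      have a : φ ⟪96⟫ ∈ N := h.g1 ▸ hN.conj_mem _ e g
      have b := mul_mem (hN.conj_mem _ a (φ ⟪64⟫)) a
      rw [Cj.of, ← map_mul, show ⟪64⟫ * ⟪96⟫ * ⟪64⟫⁻¹ * ⟪96⟫ = ⟪32⟫ by decide +kernel] at b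
      have c := cN.coprime_dvd_left (orderOf_dvd_natCard N b)
      rw [orderOf_injective φ su.inj, orderOf_eq_prime (p := 3) (by decide +kernel) (by decide +kernel)] at c
      exact absurd c (by norm_num)) P
    (hP ▸ ⟨⟨by
      rintro ⟨_, a, ha, rfl⟩ ⟨_, b, hb, rfl⟩
      exact Subtype.ext (by
        simp only [coe_mul, ← map_mul]; rw [(by decide +kernel : ∀ a ∈ D, ∀ b ∈ D, a * b = b * a) a ha b hb])⟩⟩)
    (hP ▸ fun hc => by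
      obtain ⟨⟨_, a, ha, rfl⟩, hg⟩ := hc.exists_generator
      have k : ∀ b ∈ D, b = 1 ∨ b = a ∨ b = a * a := fun b hb => by
        obtain ⟨n, hn⟩ := (mem_powers_iff_mem_zpowers.2 (hg ⟨_, b, hb, rfl⟩))
        have e : a ^ n = b := su.eq (by rw [map_pow]; exact congrArg Subtype.val hn)
        rw [← e, ← pow_mod_orderOf, pow_eq_pow_mod _ (show a ^ 3 = 1 by rw [pow_three']; exact ha.2)]
        have := Nat.mod_lt (n % orderOf a) (show 0 < 3 by norm_num)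
        interval_cases n % orderOf a % 3 <;> simp [pow_two]
      exact (by decide +kernel : ∀ a ∈ D, ¬ ∀ b ∈ D, b = 1 ∨ b = a ∨ b = a * a) a ha k)
    (hP ▸ fun n hn => by
      obtain ⟨k, rfl, hk⟩ := NH n hn
      refine ((by decide +kernel : ∀ k, k * ⟪192⟫ * k⁻¹ ∈ D → k * ⟪32⟫ * k⁻¹ ∈ D → (∀ d ∈ D, k * d * k⁻¹ = d) ∨
        ∀ d ∈ D, k * d * k⁻¹ = d⁻¹) k (hk _ (by decide +kernel)) (hk _ (by decide +kernel))).imp ?_ ?_ <;>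
        rintro e _ ⟨d, hd, rfl⟩
      · exact (Cj.of k d).cast rfl (e d hd)
      · exact map_inv φ d ▸ (Cj.of k d).cast rfl (e d hd))
    (τ := φ ⟪96⟫) (hP ▸ nD' _ (by decide +kernel)) (hP ▸ by
      rintro _ ⟨d, hd, rfl⟩
      exact map_inv φ d ▸ (Cj.of _ d).cast rfl ((by decide +kernel : ∀ d ∈ D, ⟪96⟫ * d * ⟪96⟫⁻¹ = d⁻¹) d hd))
  rw [hP] at hn
  obtain ⟨e, e1, e2⟩ := hn.conj_mem _ (mem_map_of_mem φ (show ⟪32⟫ ∈ D by decide +kernel)) (φ ⟪1⟫)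
  exact (by decide +kernel : ⟪1⟫ * ⟪32⟫ * ⟪1⟫⁻¹ ∉ D) ((Cj.of _ _).uniq su.inj e2.symm ▸ e1)

theorem St.top (su : Su φ ⟪16⟫) (h : St φ y g) {B : Subgroup G} (h1 : ∀ h, φ h ∈ B) (h2 : y ∈ B) (e : B ≃* PG) :
    Nonempty (G ≃* PG) := by
  have gB : g ∈ B := h.g0 ▸ mul_mem (mul_mem h2 (h1 _)) (inv_mem h2)
  have o2 : ∀ p, p * p = 1 ∧ p ≠ 1 → orderOf (φ p) = 2 := fun p hp => by
    rw [orderOf_injective φ su.inj, orderOf_eq_prime (by rw [pow_two, hp.1]) hp.2]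
  have k : ∀ c ∈ B, orderOf c = 2 → ∃ b ∈ B, b * c * b⁻¹ = φ ⟪16⟫ := fun c c1 c2 => by
    obtain ⟨m, m1, p, -, e⟩ := exists_cj ((sylT su).mono (map_le_iff_le_comap.2 fun a _ => h1 a) le_top) c1 (n := 1)
      (by rw [pow_one, ← c2, pow_orderOf_eq_one])
    have k : ∀ b ∈ B, Cj φ b p ⟪16⟫ → ∃ b ∈ B, b * c * b⁻¹ = φ ⟪16⟫ := fun b b1 b2 =>
      ⟨b * m, mul_mem b1 m1, by rw [← b2, ← e]; group⟩
    rcases (by decide +kernel : ∀ p, p * p = 1 → p = 1 ∨ p = ⟪16⟫ ∨ ∃ k, k * p * k⁻¹ = ⟪5⟫ ∨ k * p * k⁻¹ = ⟪96⟫) p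
      (su.eq (by rw [map_mul, ← e, conj_mul, mul_self_of_two c2]; simp)) with rfl | rfl | ⟨q, e1 | e1⟩
    · rw [map_one, conj_eq_one_iff] at e; exact absurd e (ne_one_of_two c2)
    · exact k 1 (one_mem _) Cj.id
    · exact k _ (mul_mem (inv_mem h2) (h1 q)) (((Cj.of q p).cast rfl e1).comp h.a5.symm)
    · exact k _ (mul_mem (inv_mem gB) (h1 q)) (((Cj.of q p).cast rfl e1).comp h.g1.symm)
  by_cases hB : B = ⊤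
  · exact ⟨(topEquiv.symm.trans (MulEquiv.subgroupCongr hB.symm)).trans e⟩
  have hs := BS.bro.solvable (stronglyEmbedded_iff.2 ⟨hB, even_iff_two_dvd.2 (o2 _ ⟨su.zz, su.z1⟩ ▸ orderOf_dvd_natCard B (h1 _)),
    fun t a t1 t2 t3 => by
      obtain ⟨b, b1, b2⟩ := k t t2 t1
      obtain ⟨c, c1, c2⟩ := k _ t3 ((orderOf_conj a t).trans t1)
      obtain ⟨p, hp⟩ := su.cen (c * a * b⁻¹) (by
        rw [← mul_inv_eq_iff_eq_mul]; nth_rewrite 1 [← b2]; rw [← c2]; group)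
      have := mul_mem (mul_mem (inv_mem c1) (h1 p)) b1
      rw [hp] at this
      simpa [mul_assoc] using this⟩)
    ⟨φ ⟪16⟫, trivial, φ ⟪5⟫, trivial, o2 _ (by decide +kernel), o2 _ (by decide +kernel),
      fun e => absurd (su.eq e) (by decide +kernel), by rw [commute_iff_eq, ← map_mul, ← su.zc, map_mul]⟩
  have := G23x.simple
  have := e.isSimpleGroup
  have := IsSimpleGroup.comm_iff_isSolvable.2 hs ⟨_, h1 ⟪1⟫⟩ ⟨_, h1 ⟪2⟫⟩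
  exact absurd (su.eq (by simpa only [map_mul, coe_mul] using congrArg Subtype.val this) : ⟪1⟫ * ⟪2⟫ = ⟪2⟫ * ⟪1⟫) (by decide +kernel)

theorem HG.main (su : Su φ ⟪16⟫) (h5 : Fz φ ⟪16⟫ ⟪5⟫) : Nonempty (G ≃* PG) := by
  obtain ⟨φ, su, y, g, h⟩ := exists_st su h5
  obtain ⟨u, u1, u2, u3, u4, u5, u6⟩ := h.exists_u su
  have g3 : Cj φ g ⟪112⟫ ⟪16⟫ := (h.g1.mul h.g2).cast (by decide +kernel) (by decide +kernel)
  have key : ∀ a p, Cj φ a ⟪16⟫ p → Cj φ u p p → ∀ q, Cj φ a q ⟪16⟫ → q = ⟪96⟫ ∨ q = ⟪112⟫ → ∃ v, Ut φ v ∧ ∃ w ∈ W3,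
      v = a * φ (ev gn w) * a⁻¹ := fun a p a1 a2 q a3 hq => by
    obtain ⟨k, hk⟩ := su.cen _ ((a1.comp a2).comp a1.symm).comm
    have e : u = a * φ k * a⁻¹ := by rw [hk]; group
    have k1 : q * k * q⁻¹ = k⁻¹ := su.eq (by
      rw [map_inv, ← Cj.of, hk]
      calc _ = a⁻¹ * (a * φ q * a⁻¹ * u * (a * φ q * a⁻¹)⁻¹) * a := by group
        _ = _ := by rw [a3, u3]; group)
    have k2 : k * k * k = 1 := by
      have o : orderOf k = orderOf u := by rw [e, orderOf_conj, orderOf_injective φ su.inj]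
      rw [← pow_three']
      refine orderOf_dvd_iff_pow_eq_one.1 (Nat.Coprime.dvd_of_dvd_mul_right (k := orderOf k) (n := 8) ?_
        (orderOf_dvd_of_pow_eq_one ((by decide +kernel : ∀ k : HG, k ^ 24 = 1) k)))
      exact (Nat.coprime_two_right.2 (o ▸ u2)).pow_right 3
    have zz : (φ ⟪16⟫)⁻¹ = φ ⟪16⟫ := inv_eq_of_mul_eq_one_right (by rw [← map_mul, su.zz, map_one])
    have k3 : u * u * u = 1 := by rw [e, conj_mul, conj_mul, ← map_mul, ← map_mul, k2]; simp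
    have ut : Ut φ u := ⟨k3, by rw [mul_assoc, ← mul_assoc (φ _), ← mul_inv_cancel u, ← u3, zz], u4, u5⟩
    obtain ⟨w, w1, w2 | w2⟩ := (by decide +kernel : ∀ k : HG, k * k * k = 1 → k ≠ 1 → ⟪96⟫ * k * ⟪96⟫⁻¹ = k⁻¹ ∨
      ⟪112⟫ * k * ⟪112⟫⁻¹ = k⁻¹ → ∃ w ∈ W3, ev gn w = k ∨ ev gn w = k⁻¹) k k2 (fun e' => u1 (by rw [e, e']; simp))
      (by rcases hq with rfl | rfl; exacts [.inl k1, .inr k1])
    · exact ⟨u, ut, w, w1, w2 ▸ e⟩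
    · exact ⟨u⁻¹, ⟨by rw [← mul_inv_rev, ← mul_inv_rev, ← mul_assoc, k3, inv_one], by
        rw [← zz, ← mul_inv_rev, ← mul_inv_rev, inv_eq_one, mul_assoc, mul_eq_one_comm, ← ut.uz]; group, u4.symm, u5.symm⟩, w, w1, by rw [w2, e, map_inv]; group⟩
  obtain ⟨B, b1, b2, ⟨e⟩⟩ : ∃ B : Subgroup G, (∀ h, φ h ∈ B) ∧ y ∈ B ∧ Nonempty (B ≃* PG) := by
    rcases u6 with u6 | u6
    · obtain ⟨v, v1, w, w1, w2⟩ := key g _ h.g1 u6 _ g3 (.inr rfl)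
      exact h.fin su v1 w1 (.inl w2)
    · obtain ⟨v, v1, w, w1, w2⟩ := key g⁻¹ _ g3.symm u6 _ h.g1.symm (.inl rfl)
      exact h.fin su v1 w1 (.inr (by rwa [inv_inv] at w2))
  exact h.top su b1 b2 e

end Cfsg.Lib.G23
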