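import Cfsg.Agent.Lib.G23.HG
import Cfsg.Agent.Lib.X32.Rec
import Cfsg.Agent.Lib.Comp.XG1.Main
import Cfsg.Agent.Lib.Comp.XG2.Main
import Cfsg.Agent.Lib.Comp.XGc.C0
import Cfsg.Agent.Lib.Comp.XGc.C1
import Cfsg.Agent.Lib.Comp.XGc.C2

/-!
# Recognition of `G₂(3)` from relations
-/

set_option maxRecDepth 100000
set_option Elab.async false

namespace Cfsg.Lib.G23

open Cfsg.Lib.X32 Cfsg.Lib.Comp

universe u

variable {G : Type u} [Group G] {φ : HG →* G} {y g u : G}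

local notation "⟪" n "⟫" => HG.el n

/-- The permutation model of `G₂(3)`. -/
abbrev PG : Type := cl (gp G23x.nets) G23x.L

/-- Letters. -/
def lz (φ : HG →* G) (y g u : G) (n : ℕ) : G :=
  if n < 14 then φ (HG.gn n) else [y, y⁻¹, g, g⁻¹, u, u⁻¹].getD (n - 14) 1

theorem ev_lz {w : List ℕ} (h : ∀ x ∈ w, x < 14) : ev (lz φ y g u) w = φ (ev HG.gn w) := by
  induction w with
  | nil => simp [ev]
  | cons a w ih =>
    rw [List.forall_mem_cons] at h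
    rw [ev_cons, ev_cons, ih h.2, map_mul, lz, if_pos h.1]

theorem ivOK_lz : IvOK (lz φ y g u) XG1.iv := by
  have h : ∀ n < 64, XG1.iv n < 64 ∧ (n < 14 → XG1.iv n < 14 ∧ HG.gn (XG1.iv n) = (HG.gn n)⁻¹) ∧
    (20 ≤ n → XG1.iv n = n) := by decide +kernel
  have h2 : XG1.iv 14 = 15 ∧ XG1.iv 15 = 14 ∧ XG1.iv 16 = 17 ∧ XG1.iv 17 = 16 ∧ XG1.iv 18 = 19 ∧ XG1.iv 19 = 18 := by
    decide +kernel
  refine ⟨by rw [lz, if_pos (by norm_num), show HG.gn 0 = 1 by decide +kernel, map_one], fun n hn => ⟨(h n hn).1, ?_⟩⟩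
  rcases lt_or_ge n 14 with h3 | h3
  · rw [lz, lz, if_pos h3, if_pos ((h n hn).2.1 h3).1, ((h n hn).2.1 h3).2, map_inv]
  rcases lt_or_ge n 20 with h4 | h4
  · interval_cases n <;> simp [h2, lz]
  · rw [(h n hn).2.2 h4, lz, if_neg (by omega), List.getD_eq_default _ _ (by simp; omega), inv_one]

/-- The standard configuration. -/
structure St (φ : HG →* G) (y g : G) : Prop where
  y3 : y * y * y = 1
  a1 : Cj φ y ⟪11⟫ ⟪112⟫
  a2 : Cj φ y ⟪96⟫ ⟪97⟫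
  a3 : Cj φ y ⟪10⟫ ⟪10⟫
  a4 : y * φ ⟪13⟫ * (y * φ ⟪13⟫) = 1
  a5 : Cj φ y ⟪16⟫ ⟪5⟫
  g0 : g = y * φ ⟪364⟫ * y⁻¹
  g1 : Cj φ g ⟪16⟫ ⟪96⟫
  g2 : Cj φ g ⟪96⟫ ⟪112⟫
  g3 : Cj φ g ⟪5⟫ ⟪5⟫

/-- The element of order three. -/
structure Ut (φ : HG →* G) (u : G) : Prop where
  u3 : u * u * u = 1
  uz : u * φ ⟪16⟫ * (u * φ ⟪16⟫) = 1
  uw : Cj φ u ⟪192⟫ ⟪192⟫
  ux : Cj φ u ⟪32⟫ ⟪32⟫

theorem St.rels (h : St φ y g) (k : Ut φ u) : Rels (lz φ y g u) XGc.RG := fun r hr => by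
  rcases (by decide +kernel : ∀ r ∈ XGc.RG, (ev HG.gn r.1 ^ (r.2 + 1) = 1 ∧ ∀ x ∈ r.1, x < 14) ∨ r ∈ [([14],2),
    ([14,1,3,7,15,11,1,1],0), ([14,11,15,11,1,1,1],0), ([14,3,7,15,3,7],0), ([14,1,5,7],1), ([17,14,7,10,13,15],0),
    ([16,1,1,17,11],0), ([16,11,17,1,1,11],0), ([16,1,5,17,1,5],0), ([18],2), ([18,1,1],1), ([18,12,19,13],0),
    ([18,9,19,10],0), ([14,15],0), ([16,17],0), ([18,19],0)]) r hr with e | e
  · rw [ev_lz e.2, ← map_pow, e.1, map_one]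
  simp only [List.mem_cons, List.not_mem_nil, or_false] at e
  rcases e with rfl | rfl | rfl | rfl | rfl | rfl | rfl | rfl | rfl | rfl | rfl | rfl | rfl | rfl | rfl | rfl <;>
    simp only [ev, lz, List.map, List.prod_cons, List.prod_nil, Nat.reduceLT, Nat.reduceSub, reduceIte, List.getD_cons_succ,
      List.getD_cons_zero, mul_one, zero_add, pow_one, mm, ← map_mul, Nat.reduceAdd, mul_inv_cancel]
  · rw [pow_three', h.y3]
  · exact h.a1.rel (by decide +kernel)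
  · exact h.a2.rel (by decide +kernel)
  · exact h.a3.rel (by decide +kernel)
  · rw [pow_two]; exact h.a4
  · rw [inv_mul_eq_one, h.g0, mul_assoc, show HG.gn 7 * (HG.gn 10 * HG.gn 13) = ⟪364⟫ by decide +kernel]
  · exact h.g1.rel (by decide +kernel)
  · exact h.g2.rel (by decide +kernel)
  · exact h.g3.rel (by decide +kernel)
  · rw [pow_three', k.u3]
  · rw [pow_two]; exact k.uz
  · exact k.uw.rel (by decide +kernel)
  · exact k.ux.rel (by decide +kernel)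

theorem St.rels1 (h : St φ y g) (k : Ut φ u) {w : List ℕ} (hw : ∀ x ∈ w, x < 14) (e : u = g * φ (ev HG.gn w) * g⁻¹) :
    Rels (lz φ y g u) ((19 :: 16 :: (w ++ [17]), 0) :: XGc.RG) :=
  List.forall_mem_cons.2 ⟨by
    rw [zero_add, pow_one, ev_cons, ev_cons, ev_append, ev_lz hw, ev_single, ← mul_assoc _ (φ _)]
    exact inv_mul_eq_one.2 e, h.rels k⟩

theorem St.rels2 (h : St φ y g) (k : Ut φ u) {w : List ℕ} (hw : ∀ x ∈ w, x < 14) (e : u = g⁻¹ * φ (ev HG.gn w) * g) :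
    Rels (lz φ y g u) ((19 :: 17 :: (w ++ [16]), 0) :: XGc.RG) :=
  List.forall_mem_cons.2 ⟨by
    rw [zero_add, pow_one, ev_cons, ev_cons, ev_append, ev_lz hw, ev_single, ← mul_assoc _ (φ _)]
    exact inv_mul_eq_one.2 e, h.rels k⟩

theorem St.bad (su : Su φ ⟪16⟫) (h : St φ y g) {R : List (List ℕ × ℕ)}
    (m : Mem.{u} XG1.iv R ([1,2,3,4,5,6,7,8,9,10,11,12,13].map fun x => [x]) [[14]]) : ¬ Rels (lz φ y g u) R := fun hr => by
  obtain ⟨p, hp⟩ := m G _ φ.range ivOK_lz hr (fun w hw => by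
    rw [ev_lz ((by decide : ∀ w ∈ ([1,2,3,4,5,6,7,8,9,10,11,12,13].map fun x => [x]), ∀ x ∈ w, x < 14) w hw)]
    exact ⟨_, rfl⟩) [14] (by simp)
  have e : Cj φ y ⟪16⟫ ⟪16⟫ := ((Cj.of p _).cast rfl (by rw [su.zc, mul_inv_cancel_right])).cast' (hp.trans (ev_single _ 14))
  exact absurd (e.uniq su.inj h.a5) (by decide +kernel)

theorem good (su : Su φ ⟪16⟫) {γ : ℕ → Equiv.Perm ℕ} {R R' : List (List ℕ × ℕ)} (e : Nonempty (PG ≃* cl γ XG1.L))
    (h1 : IvOK γ XG1.iv) (h2 : Rels γ R) (ho : Ord.{u} XG1.iv R XG1.L 4245696) (hn : Nat.card (cl γ XG1.L) = 4245696)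
    (hR : ∀ r ∈ R, r ∈ R') (h : Rels (lz φ y g u) R') : ∃ B : Subgroup G, (∀ h, φ h ∈ B) ∧ y ∈ B ∧ Nonempty (B ≃* PG) := by
  obtain ⟨e⟩ := e
  have := G23x.simple
  obtain ⟨f, -⟩ := embed_of_rels e.symm.isSimpleGroup h1 h2 ho hn.ge ivOK_lz (fun r hr => h r (hR r hr)) (x := 1) (by decide)
    fun e => su.z1 (su.eq (by
      rw [show ⟪16⟫ = HG.gn 1 * HG.gn 1 by decide +kernel, map_mul, show φ (HG.gn 1) = 1 from e, mul_one, map_one]))
  refine ⟨_, fun p => ?_, mem_cl (x := 14) (by decide), ⟨f.symm.trans e.symm⟩⟩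
  rw [← HG.evc_wd p]
  refine Subgroup.mem_comap.1 (ev_evc (fun x hx => Subgroup.mem_comap.2 ?_) _ _)
  rcases (by decide +kernel : ∀ x < 16, HG.gn x = 1 ∨ (x < 14 ∧ x ∈ XG1.L)) x hx with e | ⟨e, e'⟩
  · rw [e, map_one]; exact one_mem _
  · have := mem_cl (γ := lz φ y g u) e'
    rwa [lz, if_pos e] at this

/-- Words for the elements of order three inverted by `⟪96⟫`. -/
def W3 : List (List ℕ) := [[9], [9,3,7], [9,4], [9,8], [12], [12,4], [9,12], [3,9,12], [9,8,12], [3,9,8,12], [10,12], [7,10,12]]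

theorem St.fin (su : Su φ ⟪16⟫) (h : St φ y g) (k : Ut φ u) {w : List ℕ} (hw : w ∈ W3)
    (e : u = g * φ (ev HG.gn w) * g⁻¹ ∨ u = g⁻¹ * φ (ev HG.gn w) * g) :
    ∃ B : Subgroup G, (∀ h, φ h ∈ B) ∧ y ∈ B ∧ Nonempty (B ≃* PG) := by
  have l := (by decide : ∀ w ∈ W3, ∀ x ∈ w, x < 14) w hw
  simp only [W3, List.mem_cons, List.not_mem_nil, or_false] at hw
  rcases e with e | e
  · have r := h.rels1 k l e
    rcases hw with rfl | rfl | rfl | rfl | rfl | rfl | rfl | rfl | rfl | rfl | rfl | rfl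
    exacts [absurd r (h.bad su XGc.c32_16), absurd r (h.bad su XGc.c42_16), absurd r (h.bad su XGc.c50_16),
      absurd r (h.bad su XGc.c56_16), absurd r (h.bad su XGc.c192_16), absurd r (h.bad su XGc.c211_16),
      absurd r (h.bad su XGc.c224_16), absurd r (h.bad su XGc.c225_16), absurd r (h.bad su XGc.c248_16),
      absurd r (h.bad su XGc.c249_16), absurd r (h.bad su XGc.c256_16),
      good su XG2.perm XG2.nets_iv XG2.nets_rel XG2.ord XG2.card (by decide +kernel) r]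
  · have r := h.rels2 k l e
    rcases hw with rfl | rfl | rfl | rfl | rfl | rfl | rfl | rfl | rfl | rfl | rfl | rfl
    exacts [absurd r (h.bad su XGc.c32_17), absurd r (h.bad su XGc.c42_17), absurd r (h.bad su XGc.c50_17),
      absurd r (h.bad su XGc.c56_17), absurd r (h.bad su XGc.c192_17),
      good su XG1.perm XG1.nets_iv XG1.nets_rel XG1.ord XG1.card (by decide +kernel) r,
      absurd r (h.bad su XGc.c224_17), absurd r (h.bad su XGc.c225_17), absurd r (h.bad su XGc.c248_17),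
      absurd r (h.bad su XGc.c249_17), absurd r (h.bad su XGc.c256_17), absurd r (h.bad su XGc.c268_17)]

end Cfsg.Lib.G23
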